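import Cfsg.Agent.H589.BD.Defs
import Cfsg.Agent.H684.CoverCount
import Cfsg.Agent.H98.Lat.AlgInt
import Cfsg.Agent.H608.BrauerFeit
import Cfsg.Agent.H625.R4.Tools
import Cfsg.Agent.H893.Sd.MemIff
import Cfsg.Agent.H996.Eight.Interval
import Cfsg.Agent.S0925
import Cfsg.Agent.Blocks.CentralProduct
import Cfsg.Agent.H700.PrinExt
import Cfsg.Agent.H279.FiveAlt
import Cfsg.Agent.H597.Taketa

/-!
# S4932, S4953: a size criterion without centralizers (helper726)

`kill_gen`: `α`, `β` nontrivial characters in the principal `p`-block of the simple group `S`, `o = |Out S|`,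
`4 K ≥ (o |S|)_p ^ 2 + 4`, `2 o² + 2 (o α(1))² (o |S|_p) K < β(1)²`. Then every almost simple group over `S` has at
least four degrees in the principal block.
-/

set_option autoImplicit false
set_option linter.unusedSectionVars false

open Cfsg
open scoped ComplexConjugate commutatorElement

namespace Cfsg.Agent.H726.BD

open Cfsg.Agent.Characters Cfsg.Agent.Characters.Core Cfsg.Agent.Characters.GaloisBasic Cfsg.Agent.H616
  Cfsg.Agent.Blocks.Basic Cfsg.Agent.H589.BD

universe u

section fin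

variable {G : Type u} [Group G] [Finite G]

/-- the sum of a set of characters -/
noncomputable def sm (B : Finset (IrrCharacter G)) (g : G) : ℂ := ∑ χ ∈ B, (χ : G → ℂ) g

theorem sm_comb (B : Finset (IrrCharacter G)) (g : G) :
    sm B g = ∑ χ ∈ B, (((1 : ℚ) : ℂ)) * (χ : G → ℂ) g := by
  unfold sm
  refine Finset.sum_congr rfl fun χ _ => ?_
  rw [Rat.cast_one, one_mul]

theorem isIntegral_sm (B : Finset (IrrCharacter G)) (g : G) : IsIntegral ℤ (sm B g) :=
  IsIntegral.sum _ fun χ _ => isIntegral_apply (isIrr_isCharacter χ.2) g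

theorem galFam_sm (B : Finset (IrrCharacter G)) (g : G) : GalFam (Nat.card G) fun k => sm B (g ^ k) := by
  have h1 := H98.Lat.galFam_comb (B := B) (v := fun _ => 1) (fun g => by
    rw [← sm_comb]; exact isIntegral_sm B g) g
  have h2 : (fun k : ℕ => sm B (g ^ k)) = fun k : ℕ => ∑ χ ∈ B, ((1 : ℚ) : ℂ) * (χ : G → ℂ) (g ^ k) := by
    funext k
    exact sm_comb B _
  rw [h2]
  exact h1

/-- `∑ |F|²` over the group -/
theorem sum_norm_sm [Fintype G] (B : Finset (IrrCharacter G)) :
    ∑ g : G, ‖sm B g‖ ^ 2 = (Nat.card G : ℝ) * B.card := by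
  have h1 := H703.Lat.classInner_comb (B := B) (fun _ => (1 : ℂ)) (fun _ => (1 : ℂ))
  have h2 : (fun g => ∑ χ ∈ B, (1 : ℂ) * (χ : G → ℂ) g) = sm B := by
    funext g
    unfold sm
    simp only [one_mul]
  rw [h2] at h1
  have h3 : classInner (sm B) (sm B) = (Nat.card G : ℂ)⁻¹ * ((∑ g : G, ‖sm B g‖ ^ 2 : ℝ) : ℂ) := by
    rw [Core.classInner_def]
    congr 1
    push_cast
    refine Finset.sum_congr rfl fun g _ => ?_
    rw [Complex.mul_conj, Complex.normSq_eq_norm_sq]
    push_cast
    rfl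
  rw [h3] at h1
  have hG : (Nat.card G : ℂ) ≠ 0 := card_ne_zero_complex
  simp only [map_one, mul_one, Finset.sum_const, nsmul_eq_mul] at h1
  have h4 : ((∑ g : G, ‖sm B g‖ ^ 2 : ℝ) : ℂ) = (((Nat.card G : ℝ) * B.card : ℝ) : ℂ) := by
    rw [inv_mul_eq_iff_eq_mul₀ hG] at h1
    rw [h1]
    push_cast
    ring
  exact_mod_cast h4

/-- The arithmetic-geometric mean inequality on a set closed under Galois powers. -/
theorem card_le_sum_norm [Fintype G] (B : Finset (IrrCharacter G)) (X : Finset G)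
    (hX : ∀ g ∈ X, ∀ k : ℕ, k.Coprime (Nat.card G) → g ^ k ∈ X) (h0 : ∀ g ∈ X, sm B g ≠ 0) :
    (X.card : ℝ) ≤ ∑ g ∈ X, ‖sm B g‖ ^ 2 := by
  classical
  have hne : NeZero (Nat.card G) := ⟨Nat.card_pos.ne'⟩
  have hp : Fact (Nat.Prime 2) := ⟨Nat.prime_two⟩
  obtain ⟨M, hM⟩ := Cfsg.Agent.Blocks.Knorr.exists_isPModular 2
  have h1 : ∀ g ∈ X, (Fintype.card (ZMod (Nat.card G))ˣ : ℝ) ≤
      ∑ u : (ZMod (Nat.card G))ˣ, ‖sm B (g ^ (u : ZMod (Nat.card G)).val)‖ ^ 2 := fun g hg =>
    (galFam_sm B g).card_le_sum_one (by simpa only [pow_one] using h0 g hg) hM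
  have h2 := Finset.sum_le_sum h1
  rw [Finset.sum_comm] at h2
  have h3 : ∀ u : (ZMod (Nat.card G))ˣ, ∑ g ∈ X, ‖sm B (g ^ (u : ZMod (Nat.card G)).val)‖ ^ 2 =
      ∑ g ∈ X, ‖sm B g‖ ^ 2 := by
    intro u
    have hinj : Set.InjOn (fun g : G => g ^ (u : ZMod (Nat.card G)).val) (X : Set G) :=
      (powCoprime (ZMod.val_coe_unit_coprime u).symm).injective.injOn
    have himg : X.image (fun g : G => g ^ (u : ZMod (Nat.card G)).val) = X := by
      apply Finset.eq_of_subset_of_card_le
      · intro x hx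
        obtain ⟨g, hg, rfl⟩ := Finset.mem_image.1 hx
        exact hX g hg _ (ZMod.val_coe_unit_coprime u)
      · rw [Finset.card_image_of_injOn hinj]
    conv_rhs => rw [← himg]
    rw [Finset.sum_image hinj]
  rw [Finset.sum_congr rfl fun u _ => h3 u, Finset.sum_const, Finset.sum_const, nsmul_eq_mul, nsmul_eq_mul,
    Finset.card_univ, mul_comm (X.card : ℝ)] at h2
  exact le_of_mul_le_mul_left h2 (by exact_mod_cast Fintype.card_pos)

/-- the number of `p`-singular elements is at least the `p'`-part of the order -/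
theorem card_sing {p : ℕ} [hp : Fact p.Prime] (hd : p ∣ Nat.card G) :
    ordCompl[p] (Nat.card G) ≤ Nat.card {x : G // p ∣ orderOf x} := by
  classical
  have := Fintype.ofFinite G
  have h1 := Blocks.CentralProduct.exists_int_regSum (G := G) (p := p) (isIrr_one (G := G)) (isIrr_one (G := G))
  obtain ⟨k, hk⟩ := h1
  have h2 : Blocks.CentralProduct.regSum p (1 : G → ℂ) (1 : G → ℂ) =
      (Nat.card {x : G // ¬ p ∣ orderOf x} : ℂ) := by
    unfold Blocks.CentralProduct.regSum
    rw [Nat.card_eq_fintype_card, Fintype.card_subtype]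
    simp
  rw [h2] at hk
  set m := ordCompl[p] (Nat.card G) with hm
  have hG : Nat.card G = p ^ (Nat.card G).factorization p * m := (Nat.ordProj_mul_ordCompl_eq_self _ p).symm
  have hsum : Nat.card {x : G // p ∣ orderOf x} + Nat.card {x : G // ¬ p ∣ orderOf x} = Nat.card G := by
    rw [Nat.card_eq_fintype_card, Nat.card_eq_fintype_card, Nat.card_eq_fintype_card,
      Fintype.card_subtype_compl, Nat.add_sub_cancel' (Fintype.card_subtype_le _)]
  have hp0 : 0 < p ^ (Nat.card G).factorization p := pow_pos hp.out.pos _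
  have h3 : (Nat.card {x : G // ¬ p ∣ orderOf x} : ℤ) = m * k := by
    have h4 : ((p ^ (Nat.card G).factorization p : ℕ) : ℂ) * (Nat.card {x : G // ¬ p ∣ orderOf x} : ℂ) =
        ((p ^ (Nat.card G).factorization p : ℕ) : ℂ) * ((m : ℂ) * k) := by
      rw [hk]
      conv_lhs => rw [hG]
      push_cast
      ring
    have h5 := mul_left_cancel₀ (by exact_mod_cast hp0.ne') h4
    exact_mod_cast h5
  have h6 : (m : ℤ) ∣ (Nat.card {x : G // p ∣ orderOf x} : ℤ) := by
    have h7 : (Nat.card {x : G // p ∣ orderOf x} : ℤ) = Nat.card G - (Nat.card {x : G // ¬ p ∣ orderOf x} : ℤ) := by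
      omega
    rw [h7]
    apply dvd_sub
    · rw [Int.natCast_dvd_natCast, hG]
      exact Dvd.intro_left _ rfl
    · exact ⟨k, h3⟩
  have h8 : m ∣ Nat.card {x : G // p ∣ orderOf x} := Int.natCast_dvd_natCast.1 h6
  refine Nat.le_of_dvd ?_ h8
  obtain ⟨x, hx⟩ := exists_prime_orderOf_dvd_card' p hd
  have : Nonempty {x : G // p ∣ orderOf x} := ⟨⟨x, by rw [hx]⟩⟩
  exact Nat.card_pos

end fin

section main

variable {p : ℕ} [hp : Fact p.Prime] {M : Ideal AlgInt} {A : Type u} [Group A] [Finite A]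

/-- **weak block orthogonality** -/
theorem orth (hM : IsPModular p M) (B : Finset (IrrCharacter A))
    (hB : ∀ χ, χ ∈ B ↔ χ ∈ principalBlock M A) {u : A} (hu : p ∣ orderOf u) :
    ∑ χ ∈ B, (charDegree (χ : A → ℂ) : ℂ) * (χ : A → ℂ) u = 0 := by
  have h1 := Blocks.Orthogonality.weak_block_orthogonality hM (principalBlock M A)
    (S0913.result p M hM _ ⟨H893.Sd.one A, rfl⟩) (x := (1 : A)) (y := u⁻¹)
    (by rw [orderOf_one, Nat.dvd_one]; exact hp.out.ne_one) (by rwa [orderOf_inv])
  have h2 : (B : Set (IrrCharacter A)) = principalBlock M A := Set.ext fun χ => hB χ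
  rw [← h2, finsum_mem_coe_finset] at h1
  rw [← h1]
  refine Finset.sum_congr rfl fun χ _ => ?_
  rw [irr_one_eq_charDegree χ.2, ← isCharacter_apply_inv (isIrr_isCharacter χ.2), inv_inv]

theorem degree_pos (χ : IrrCharacter A) : 0 < charDegree (χ : A → ℂ) := by
  rcases Nat.eq_zero_or_pos (charDegree (χ : A → ℂ)) with h | h
  · have h1 := irr_one_eq_charDegree χ.2
    rw [h, Nat.cast_zero] at h1
    exact absurd h1 (isIrr_apply_one_ne_zero χ.2)
  · exact h

theorem indFun_one' [Fintype A] (H : Subgroup A) (θ : H → ℂ) : indFun H θ 1 = (H.index : ℂ) * θ 1 := by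
  rw [indFun_apply]
  have h1 : ∀ x : A, extendByZero H θ (x⁻¹ * 1 * x) = θ 1 := by
    intro x
    have h2 : x⁻¹ * 1 * x = ((1 : H) : A) := by rw [mul_one, inv_mul_cancel]; rfl
    rw [h2, extendByZero_of_mem H θ (SetLike.coe_mem _)]
  rw [Finset.sum_congr rfl fun x _ => h1 x, Finset.sum_const, Finset.card_univ, nsmul_eq_mul, ← Nat.card_eq_fintype_card,
    ← H.card_mul_index]
  have h3 : (Nat.card H : ℂ) ≠ 0 := card_ne_zero_complex
  push_cast
  field_simp

/-- a member of the principal block over a member of the principal block of a normal subgroup, with its degree -/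
theorem exists_above (hM : IsPModular p M) (N : Subgroup A) [N.Normal] (θ : IrrCharacter N)
    (hθ : θ ∈ principalBlock M N) : ∃ χ ∈ principalBlock M A, charDegree (θ : N → ℂ) ≤ charDegree (χ : A → ℂ) ∧
      charDegree (χ : A → ℂ) ≤ N.index * charDegree (θ : N → ℂ) := by
  have := Fintype.ofFinite A
  have := Fintype.ofFinite N
  obtain ⟨χ, hχ, h0⟩ := H684.CoverCount.exists_over hM N θ hθ
  refine ⟨χ, hχ, ?_, ?_⟩
  · exact H996.Eight.Interval.charDegree_le (Brauer.isCharacter_restrict (isIrr_isCharacter χ.2) N)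
      (irr_one_eq_charDegree χ.2) θ.2 h0
  · have h1 : classInner (indFun N (θ : N → ℂ)) (χ : A → ℂ) ≠ 0 := by
      rw [Brauer.classInner_indFun N _ _ _ (isIrr_isClassFunction χ.2)]
      intro h2
      apply h0
      rw [← classInner_conj_symm, h2, map_zero]
    refine H996.Eight.Interval.charDegree_le (Brauer.isCharacter_indFun N (isIrr_isCharacter θ.2)) ?_ χ.2 h1
    rw [indFun_one', irr_one_eq_charDegree θ.2]
    push_cast
    ring

theorem le_commutator {S : Type*} [Group S] [IsSimpleGroup S] (hna : ¬ IsMulCommutative S) (N : Subgroup A)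
    (e : N ≃* S) : N ≤ commutator A := by
  have h1 : commutator S = ⊤ := by
    rcases IsSimpleGroup.eq_bot_or_eq_top_of_normal (commutator S) inferInstance with h | h
    · exfalso
      apply hna
      refine ⟨⟨fun x y => ?_⟩⟩
      have h2 : ⁅x, y⁆ ∈ commutator S := Subgroup.commutator_mem_commutator (Subgroup.mem_top _) (Subgroup.mem_top _)
      rw [h, Subgroup.mem_bot] at h2
      exact commutatorElement_eq_one_iff_mul_comm.1 h2
    · exact h
  set f : S →* A := N.subtype.comp e.symm.toMonoidHom with hf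
  have h2 : (⊤ : Subgroup S).map f = N := by
    rw [← MonoidHom.range_eq_map]
    ext x
    constructor
    · rintro ⟨s, rfl⟩
      exact (e.symm s).2
    · intro hx
      exact ⟨e ⟨x, hx⟩, by simp [hf]⟩
  have h3 : N = ⁅N, N⁆ := by
    conv_lhs => rw [← h2, ← h1, commutator_def, Subgroup.map_commutator, h2]
  rw [h3, commutator_def]
  exact Subgroup.commutator_mono le_top le_top

/-- the contradiction for three degrees -/
theorem core (hM : IsPModular p M) (N : Subgroup A) [N.Normal] (hNA : N ≤ commutator A)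
    (hpN : p ∣ Nat.card N) {a b : ℕ} (hb : N.index < b) (hab : b < a)
    (hdeg : ∀ χ : IrrCharacter A, χ ∈ principalBlock M A →
      charDegree (χ : A → ℂ) = 1 ∨ charDegree (χ : A → ℂ) = b ∨ charDegree (χ : A → ℂ) = a) :
    a ^ 2 ≤ 2 * N.index ^ 2 + 2 * b ^ 2 * (N.index * ordProj[p] (Nat.card N) * Nat.card (principalBlock M A)) := by
  classical
  have hfin := Core.finite_irr (G := A)
  have hprime : M.IsPrime := Blocks.Local.isPrime_of_isPModular hM
  have := Fintype.ofFinite (IrrCharacter A)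
  have := Fintype.ofFinite A
  have hidx : 0 < N.index := Nat.pos_of_ne_zero N.index_ne_zero_of_finite
  set B : Finset (IrrCharacter A) := Finset.univ.filter (· ∈ principalBlock M A) with hBdef
  have hB : ∀ χ, χ ∈ B ↔ χ ∈ principalBlock M A := fun χ => by rw [hBdef, Finset.mem_filter]; simp
  have hBcard : B.card = Nat.card (principalBlock M A) := by
    rw [Nat.card_eq_fintype_card, ← Set.toFinset_card]
    congr 1
    ext χ
    rw [hB, Set.mem_toFinset]
  set L := B.filter (fun χ : IrrCharacter A => charDegree (χ : A → ℂ) = 1) with hL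
  set Bb := B.filter (fun χ : IrrCharacter A => charDegree (χ : A → ℂ) = b) with hBb
  set Ba := B.filter (fun χ : IrrCharacter A => charDegree (χ : A → ℂ) = a) with hBa
  -- the relation
  have hrel : ∀ u : A, u ∈ N → p ∣ orderOf u → (L.card : ℂ) + b * sm Bb u + a * sm Ba u = 0 := by
    intro u huN hu
    have h1 := orth hM B hB hu
    have h2 : ∀ χ ∈ B, (charDegree (χ : A → ℂ) : ℂ) * (χ : A → ℂ) u =
        (if charDegree (χ : A → ℂ) = 1 then (1 : ℂ) else 0) +
        (if charDegree (χ : A → ℂ) = b then (b : ℂ) * (χ : A → ℂ) u else 0) +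
        (if charDegree (χ : A → ℂ) = a then (a : ℂ) * (χ : A → ℂ) u else 0) := by
      intro χ hχ
      rcases hdeg χ ((hB χ).1 hχ) with h3 | h3 | h3
      · rw [if_pos h3, if_neg (by omega), if_neg (by omega), h3, Nat.cast_one, one_mul, add_zero, add_zero,
          H597.Taketa.commutator_le_ker_of_linear χ.2 h3 u (hNA huN), irr_one_eq_charDegree χ.2, h3, Nat.cast_one]
      · rw [if_neg (by omega), if_pos h3, if_neg (by omega), h3, add_zero, zero_add]
      · rw [if_neg (by omega), if_neg (by omega), if_pos h3, h3, zero_add, zero_add]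
    rw [Finset.sum_congr rfl h2, Finset.sum_add_distrib, Finset.sum_add_distrib, ← Finset.sum_filter,
      ← Finset.sum_filter, ← Finset.sum_filter, ← hL, ← hBb, ← hBa, Finset.sum_const, nsmul_eq_mul, mul_one,
      ← Finset.mul_sum, ← Finset.mul_sum] at h1
    exact h1
  have hLle : L.card ≤ N.index := by
    refine le_trans (Finset.card_le_card ?_) (H279.FiveAlt.card_linear_le N hNA)
    intro χ hχ
    rw [Finset.mem_filter] at hχ ⊢
    exact ⟨Finset.mem_univ _, hχ.2⟩
  have hLpos : 0 < L.card := by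
    refine Finset.card_pos.2 ⟨H893.Sd.one A, ?_⟩
    rw [Finset.mem_filter, hB]
    refine ⟨Blocks.PrincipalSection.one_mem_principalBlock, ?_⟩
    have h1 := irr_one_eq_charDegree (H893.Sd.one A).2
    have h2 : ((H893.Sd.one A : IrrCharacter A) : A → ℂ) 1 = 1 := rfl
    rw [h2] at h1
    exact_mod_cast h1.symm
  -- the sum over the large degree does not vanish
  have hne : ∀ u : A, u ∈ N → p ∣ orderOf u → sm Ba u ≠ 0 := by
    intro u huN hu h0
    have h1 := hrel u huN hu
    rw [h0, mul_zero, add_zero] at h1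
    have hb0 : (b : ℂ) ≠ 0 := by exact_mod_cast (by omega : b ≠ 0)
    have h2 : sm Bb u = ((-(L.card : ℚ) / b : ℚ) : ℂ) := by
      push_cast
      rw [eq_div_iff hb0]
      linear_combination h1
    obtain ⟨z, hz⟩ := exists_int_of_isIntegral (isIntegral_sm Bb u) ⟨_, h2⟩
    rw [hz] at h1
    have h3 : (L.card : ℤ) + b * z = 0 := by exact_mod_cast h1
    have h4 : (b : ℤ) ∣ (L.card : ℤ) := ⟨-z, by linarith⟩
    have h5 := Nat.le_of_dvd hLpos (Int.natCast_dvd_natCast.1 h4)
    omega
  set X : Finset A := Finset.univ.filter (fun u => u ∈ N ∧ p ∣ orderOf u) with hX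
  have hXmem : ∀ u, u ∈ X ↔ u ∈ N ∧ p ∣ orderOf u := fun u => by rw [hX, Finset.mem_filter]; simp
  have h1 : (X.card : ℝ) ≤ ∑ g ∈ X, ‖sm Ba g‖ ^ 2 := by
    refine card_le_sum_norm Ba X ?_ fun g hg => hne g ((hXmem g).1 hg).1 ((hXmem g).1 hg).2
    intro g hg k hk
    rw [hXmem] at hg ⊢
    refine ⟨N.pow_mem hg.1 k, ?_⟩
    rw [Nat.Coprime.orderOf_pow (Nat.Coprime.coprime_dvd_left (orderOf_dvd_natCard g) hk.symm)]
    exact hg.2
  have h2 : ∑ g ∈ X, ‖(a : ℂ) * sm Ba g‖ ^ 2 ≤
      2 * (L.card : ℝ) ^ 2 * X.card + 2 * (b : ℝ) ^ 2 * ((Nat.card A : ℝ) * Bb.card) := by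
    have h3 : ∀ g ∈ X, ‖(a : ℂ) * sm Ba g‖ ^ 2 ≤ 2 * (L.card : ℝ) ^ 2 + 2 * (b : ℝ) ^ 2 * ‖sm Bb g‖ ^ 2 := by
      intro g hg
      have h4 := hrel g ((hXmem g).1 hg).1 ((hXmem g).1 hg).2
      have h5 : (a : ℂ) * sm Ba g = -((L.card : ℂ) + b * sm Bb g) := by linear_combination h4
      rw [h5, norm_neg]
      have h6 : ‖(L.card : ℂ) + b * sm Bb g‖ ≤ L.card + b * ‖sm Bb g‖ := by
        refine (norm_add_le _ _).trans ?_
        rw [norm_mul, Complex.norm_natCast, Complex.norm_natCast]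
      have h7 : ‖(L.card : ℂ) + b * sm Bb g‖ ^ 2 ≤ (L.card + b * ‖sm Bb g‖) ^ 2 :=
        pow_le_pow_left₀ (norm_nonneg _) h6 2
      refine h7.trans ?_
      nlinarith [sq_nonneg ((L.card : ℝ) - b * ‖sm Bb g‖)]
    refine (Finset.sum_le_sum h3).trans ?_
    rw [Finset.sum_add_distrib, Finset.sum_const, nsmul_eq_mul, ← Finset.mul_sum, mul_comm (X.card : ℝ)]
    refine add_le_add le_rfl (mul_le_mul_of_nonneg_left ?_ (by positivity))
    rw [← sum_norm_sm]
    exact Finset.sum_le_sum_of_subset_of_nonneg (Finset.subset_univ _) fun _ _ _ => by positivity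
  have h3 : ∑ g ∈ X, ‖(a : ℂ) * sm Ba g‖ ^ 2 = (a : ℝ) ^ 2 * ∑ g ∈ X, ‖sm Ba g‖ ^ 2 := by
    rw [Finset.mul_sum]
    refine Finset.sum_congr rfl fun g _ => ?_
    rw [norm_mul, Complex.norm_natCast, mul_pow]
  rw [h3] at h2
  have h4 : (a : ℝ) ^ 2 * X.card ≤ 2 * (L.card : ℝ) ^ 2 * X.card + 2 * (b : ℝ) ^ 2 * ((Nat.card A : ℝ) * Bb.card) :=
    (mul_le_mul_of_nonneg_left h1 (by positivity)).trans h2
  have h5 : a ^ 2 * X.card ≤ 2 * L.card ^ 2 * X.card + 2 * b ^ 2 * (Nat.card A * Bb.card) := by exact_mod_cast h4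
  -- the number of `p`-singular elements of `N`
  have h6 : ordCompl[p] (Nat.card N) ≤ X.card := by
    refine (card_sing hpN).trans ?_
    have h7 : Nat.card {x : N // p ∣ orderOf x} = Nat.card {u : A // u ∈ N ∧ p ∣ orderOf u} :=
      Nat.card_congr
        { toFun := fun x => ⟨x.1.1, x.1.2, by rw [Subgroup.orderOf_coe]; exact x.2⟩
          invFun := fun u => ⟨⟨u.1, u.2.1⟩, by rw [← Subgroup.orderOf_coe]; exact u.2.2⟩
          left_inv := fun x => rfl
          right_inv := fun u => rfl }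
    rw [h7, Nat.card_eq_fintype_card, Fintype.card_subtype]
  have h7 : Nat.card A ≤ N.index * ordProj[p] (Nat.card N) * X.card := by
    rw [← N.index_mul_card]
    conv_lhs => rw [← Nat.ordProj_mul_ordCompl_eq_self (Nat.card N) p]
    rw [← mul_assoc]
    exact Nat.mul_le_mul_left _ h6
  have h8 : Bb.card ≤ Nat.card (principalBlock M A) := by
    rw [← hBcard]
    exact Finset.card_filter_le _ _
  have hXpos : 0 < X.card := lt_of_lt_of_le (Nat.ordCompl_pos p Nat.card_pos.ne') h6
  refine le_of_mul_le_mul_right ?_ hXpos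
  calc a ^ 2 * X.card ≤ 2 * L.card ^ 2 * X.card + 2 * b ^ 2 * (Nat.card A * Bb.card) := h5
    _ ≤ 2 * N.index ^ 2 * X.card + 2 * b ^ 2 * ((N.index * ordProj[p] (Nat.card N) * X.card) *
        Nat.card (principalBlock M A)) := by gcongr
    _ = _ := by ring

/-- **The size criterion without centralizers.** -/
theorem kill_gen {S : Type u} [Group S] [Finite S] [IsSimpleGroup S] (hna : ¬ IsMulCommutative S) (hS : SizeOK S)
    (hpS : p ∣ Nat.card S) (α β : IrrCharacter S)
    (hα : ∀ M : Ideal AlgInt, IsPModular p M → α ∈ principalBlock M S)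
    (hβ : ∀ M : Ideal AlgInt, IsPModular p M → β ∈ principalBlock M S)
    (nα : ∃ g : S, (α : S → ℂ) g ≠ 1) {K : ℕ}
    (hK : (ordProj[p] (Nat.card (Out S) * Nat.card S)) ^ 2 + 4 ≤ 4 * K)
    (h : 2 * Nat.card (Out S) ^ 2 + 2 * (Nat.card (Out S) * charDegree (α : S → ℂ)) ^ 2 *
      (Nat.card (Out S) * ordProj[p] (Nat.card S) * K) < charDegree (β : S → ℂ) ^ 2) : Kill p S := by
  classical
  intro A _ _ N hN M hM
  have := hN.normal
  obtain ⟨e⟩ := hN.iso
  have hprime : M.IsPrime := Blocks.Local.isPrime_of_isPModular hM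
  have hfin := Core.finite_irr (G := A)
  have : Finite (Out S) := inferInstance
  have ho : N.index ∣ Nat.card (Out S) := H625.R4.index_dvd_out N e.symm hN.cent
  have hopos : 0 < Nat.card (Out S) := Nat.card_pos
  have hole : N.index ≤ Nat.card (Out S) := Nat.le_of_dvd hopos ho
  have hcN : Nat.card N = Nat.card S := Nat.card_congr e.toEquiv
  have hdm : ∀ θ : IrrCharacter S, charDegree ((H700.PrinExt.mapIrr e θ : IrrCharacter N) : N → ℂ) =
      charDegree (θ : S → ℂ) := by
    intro θ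
    unfold charDegree
    rw [H700.PrinExt.mapIrr_apply, map_one]
  obtain ⟨χα, hχα, hα1, hα2⟩ := exists_above hM N _ (H700.PrinExt.mapIrr_mem e (hα M hM))
  obtain ⟨χβ, hχβ, hβ1, hβ2⟩ := exists_above hM N _ (H700.PrinExt.mapIrr_mem e (hβ M hM))
  rw [hdm] at hα1 hα2 hβ1 hβ2
  set o := Nat.card (Out S) with hodef
  set b := charDegree (χα : A → ℂ) with hbdef
  set a := charDegree (χβ : A → ℂ) with hadef
  set P := ordProj[p] (Nat.card S) with hP
  have hPpos : 0 < P := Nat.ordProj_pos _ _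
  have hKpos : 0 < K := by
    rcases Nat.eq_zero_or_pos K with h0 | h0
    · rw [h0] at hK; omega
    · exact h0
  have hαo := hS α nα
  have hb1 : N.index < b := by omega
  have hbo : b ≤ o * charDegree (α : S → ℂ) := hα2.trans (Nat.mul_le_mul_right _ hole)
  have hab : b < a := by
    have h1 : o * charDegree (α : S → ℂ) < charDegree (β : S → ℂ) := by
      have h2 : (o * charDegree (α : S → ℂ)) ^ 2 < charDegree (β : S → ℂ) ^ 2 := by
        refine lt_of_le_of_lt ?_ h
        have h3 : 1 ≤ o * P * K := Nat.one_le_iff_ne_zero.2 (by positivity)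
        nlinarith [Nat.zero_le (o ^ 2), Nat.zero_le ((o * charDegree (α : S → ℂ)) ^ 2)]
      exact lt_of_pow_lt_pow_left₀ 2 (Nat.zero_le _) h2
    omega
  by_contra hc
  have h1 : ({1, b, a} : Set ℕ) ⊆ cd0 M A := by
    rintro x (rfl | rfl | rfl)
    · refine ⟨H893.Sd.one A, Blocks.PrincipalSection.one_mem_principalBlock, ?_⟩
      have h1 := irr_one_eq_charDegree (H893.Sd.one A).2
      have h2 : ((H893.Sd.one A : IrrCharacter A) : A → ℂ) 1 = 1 := rfl
      rw [h2] at h1
      exact_mod_cast h1.symm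
    · exact ⟨χα, hχα, rfl⟩
    · exact ⟨χβ, hχβ, rfl⟩
  have hfincd : (cd0 M A).Finite := by
    refine ((Set.toFinite (principalBlock M A)).image fun χ : IrrCharacter A => charDegree (χ : A → ℂ)).subset ?_
    rintro x ⟨χ, hχ, rfl⟩
    exact ⟨χ, hχ, rfl⟩
  have hb2 : 1 < b := by
    have : 0 < N.index := Nat.pos_of_ne_zero N.index_ne_zero_of_finite
    omega
  have h3 : ({1, b, a} : Set ℕ).ncard = 3 := by
    rw [Set.ncard_eq_three]
    exact ⟨1, b, a, by omega, by omega, by omega, rfl⟩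
  have h4 := Set.eq_of_subset_of_ncard_le h1 (by omega) hfincd
  have hdeg : ∀ χ : IrrCharacter A, χ ∈ principalBlock M A →
      charDegree (χ : A → ℂ) = 1 ∨ charDegree (χ : A → ℂ) = b ∨ charDegree (χ : A → ℂ) = a := by
    intro χ hχ
    have h5 : charDegree (χ : A → ℂ) ∈ cd0 M A := ⟨χ, hχ, rfl⟩
    rw [← h4] at h5
    exact h5
  have h5 := core hM N (le_commutator hna N e) (by rw [hcN]; exact hpS) hb1 hab hdeg
  rw [hcN, ← hP] at h5
  -- Brauer-Feit
  have h6 : Nat.card (principalBlock M A) ≤ K := by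
    have h7 := H608.BrauerFeit.card_le p hM (B := principalBlock M A) ⟨H893.Sd.one A, rfl⟩
    have h8 : p ^ (2 * blockDefect p (principalBlock M A)) ≤ (ordProj[p] (o * Nat.card S)) ^ 2 := by
      rw [mul_comm 2, pow_mul]
      refine Nat.pow_le_pow_left (Nat.pow_le_pow_right hp.out.pos ?_) 2
      refine (Nat.sub_le _ _).trans ?_
      have h9 : Nat.card A ∣ o * Nat.card S := by
        rw [← N.index_mul_card, hcN]
        exact Nat.mul_dvd_mul_right ho _
      exact (Nat.factorization_le_iff_dvd Nat.card_pos.ne' (Nat.mul_pos hopos Nat.card_pos).ne').2 h9 p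
    omega
  have h7 : charDegree (β : S → ℂ) ^ 2 ≤ a ^ 2 := Nat.pow_le_pow_left hβ1 2
  have h8 : a ^ 2 ≤ 2 * o ^ 2 + 2 * (o * charDegree (α : S → ℂ)) ^ 2 * (o * P * K) :=
    h5.trans (by gcongr)
  omega

end main

end Cfsg.Agent.H726.BD
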