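import Cfsg.Agent.H35.PoinNum
import Mathlib

/-!
# Numerical lemmas: the 3-part of `∏ (q ^ d - 1)` (helper726)
-/

set_option autoImplicit false

namespace Cfsg.Agent.H726.BD.Num

open Cfsg.Agent.H35.PoinNum

/-- the exponent of 3 in numbers below 81 -/
def v3 (d : ℕ) : ℕ := if 27 ∣ d then 3 else if 9 ∣ d then 2 else if 3 ∣ d then 1 else 0

theorem fac_eq {d k : ℕ} (hd : 0 < d) (h1 : 3 ^ k ∣ d) (h2 : ¬ 3 ^ (k + 1) ∣ d) : d.factorization 3 = k := by
  have h3 := (Nat.prime_three.pow_dvd_iff_le_factorization hd.ne').1 h1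
  have h4 := mt (Nat.prime_three.pow_dvd_iff_le_factorization hd.ne').2 h2
  omega

theorem fac_v3 {d : ℕ} (hd : 0 < d) (h : d < 81) : d.factorization 3 = v3 d := by
  unfold v3
  split_ifs with h1 h2 h3
  · exact fac_eq hd (by simpa using h1) (fun h4 => by
      have := Nat.le_of_dvd hd h4; norm_num at this; omega)
  · exact fac_eq hd (by simpa using h2) (by simpa using h1)
  · exact fac_eq hd (by simpa using h3) (by simpa using h2)
  · exact fac_eq hd (by simp) (by simpa using h3)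

theorem fac_one {q d : ℕ} (hq : 2 ≤ q) (h3 : 3 ∣ q - 1) (hd : 0 < d) :
    (q ^ d - 1).factorization 3 = (q - 1).factorization 3 + d.factorization 3 := by
  have hp : Fact (Nat.Prime 3) := ⟨Nat.prime_three⟩
  have h := padicValNat.pow_sub_pow (p := 3) (x := q) (y := 1) (by decide) (by omega) h3 (by omega) (n := d) hd.ne'
  rw [one_pow] at h
  rw [Nat.factorization_def _ Nat.prime_three, Nat.factorization_def _ Nat.prime_three,
    Nat.factorization_def _ Nat.prime_three, h]

theorem fac_even {q d : ℕ} (hq : 2 ≤ q) (h3 : 3 ∣ q + 1) (hd : 0 < d) (he : Even d) :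
    (q ^ d - 1).factorization 3 = (q + 1).factorization 3 + d.factorization 3 := by
  obtain ⟨e, rfl⟩ := he
  have h4 : 3 ∣ q ^ 2 - 1 := by
    have : q ^ 2 - 1 = (q - 1) * (q + 1) := by
      obtain ⟨x, rfl⟩ := Nat.exists_eq_add_of_le hq
      have : (2 + x) ^ 2 - 1 = (2 + x) ^ 2 - 1 ^ 2 := by norm_num
      rw [this, Nat.sq_sub_sq]; ring
    rw [this]
    exact h3.mul_left _
  have h5 := fac_one (q := q ^ 2) (d := e) (by nlinarith) h4 (by omega)
  have h6 : q ^ (e + e) - 1 = (q ^ 2) ^ e - 1 := by rw [← pow_mul, two_mul]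
  have h7 : (e + e).factorization 3 = e.factorization 3 := by
    have : e + e = 2 * e := by ring
    rw [this, Nat.factorization_mul (by norm_num) (by omega)]
    simp [Nat.factorization_eq_zero_of_not_dvd (show ¬ 3 ∣ 2 by decide)]
  have h8 : (q ^ 2 - 1).factorization 3 = (q + 1).factorization 3 := by
    have e1 : q ^ 2 - 1 = (q - 1) * (q + 1) := by
      obtain ⟨x, rfl⟩ := Nat.exists_eq_add_of_le hq
      have : (2 + x) ^ 2 - 1 = (2 + x) ^ 2 - 1 ^ 2 := by norm_num
      rw [this, Nat.sq_sub_sq]; ring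
    rw [e1, Nat.factorization_mul (by omega) (by omega)]
    have : ¬ 3 ∣ q - 1 := by omega
    simp [Nat.factorization_eq_zero_of_not_dvd this]
  rw [h6, h5, h7, h8]

theorem fac_odd {q d : ℕ} (hq : 2 ≤ q) (h3 : 3 ∣ q + 1) (he : Odd d) : (q ^ d - 1).factorization 3 = 0 := by
  apply Nat.factorization_eq_zero_of_not_dvd
  intro h
  have h1 : (q : ZMod 3) = -1 := by
    have : ((q + 1 : ℕ) : ZMod 3) = 0 := (ZMod.natCast_eq_zero_iff _ _).2 h3
    push_cast at this
    linear_combination this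
  have h2 : ((q ^ d - 1 : ℕ) : ZMod 3) = 0 := (ZMod.natCast_eq_zero_iff _ _).2 h
  rw [Nat.cast_sub (Nat.one_le_pow _ _ (by omega)), Nat.cast_pow, h1, he.neg_one_pow] at h2
  exact absurd h2 (by decide)

theorem pr_ne {q : ℕ} (hq : 2 ≤ q) : ∀ D : List ℕ, (∀ d ∈ D, 0 < d) → pr q D ≠ 0
  | [], _ => by rw [pr_nil]; exact one_ne_zero
  | d :: D, h => by
    rw [pr_cons]
    have h1 : q ≤ q ^ d := Nat.le_self_pow (h d (List.mem_cons_self ..)).ne' q
    exact Nat.mul_ne_zero (by omega) (pr_ne hq D fun e he => h e (List.mem_cons_of_mem _ he))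

theorem fac_pr_one {q : ℕ} (hq : 2 ≤ q) (h3 : 3 ∣ q - 1) : ∀ D : List ℕ, (∀ d ∈ D, 0 < d ∧ d < 81) →
    (pr q D).factorization 3 = D.length * (q - 1).factorization 3 + (D.map v3).sum
  | [], _ => by simp [pr_nil]
  | d :: D, h => by
    have h0 := h d (List.mem_cons_self ..)
    have h1 : q ≤ q ^ d := Nat.le_self_pow h0.1.ne' q
    have ih := fac_pr_one hq h3 D fun e he => h e (List.mem_cons_of_mem _ he)
    rw [pr_cons, Nat.factorization_mul (by omega) (pr_ne hq D fun e he => (h e (List.mem_cons_of_mem _ he)).1),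
      Finsupp.add_apply, ih, fac_one hq h3 h0.1, fac_v3 h0.1 h0.2]
    simp only [List.length_cons, List.map_cons, List.sum_cons]
    ring

theorem fac_pr_two {q : ℕ} (hq : 2 ≤ q) (h3 : 3 ∣ q + 1) : ∀ D : List ℕ, (∀ d ∈ D, 0 < d ∧ d < 81) →
    (pr q D).factorization 3 = (D.filter fun d => d % 2 = 0).length * (q + 1).factorization 3 +
      ((D.filter fun d => d % 2 = 0).map v3).sum
  | [], _ => by simp [pr_nil]
  | d :: D, h => by
    have h0 := h d (List.mem_cons_self ..)
    have h1 : q ≤ q ^ d := Nat.le_self_pow h0.1.ne' q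
    have ih := fac_pr_two hq h3 D fun e he => h e (List.mem_cons_of_mem _ he)
    rw [pr_cons, Nat.factorization_mul (by omega) (pr_ne hq D fun e he => (h e (List.mem_cons_of_mem _ he)).1),
      Finsupp.add_apply, ih]
    by_cases he : d % 2 = 0
    · rw [fac_even hq h3 h0.1 (Nat.even_iff.2 he), fac_v3 h0.1 h0.2, List.filter_cons_of_pos (by simpa using he)]
      simp only [List.length_cons, List.map_cons, List.sum_cons]
      ring
    · rw [fac_odd hq h3 (Nat.odd_iff.2 (by omega)), List.filter_cons_of_neg (by simpa using he), zero_add]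

/-- lower bound -/
theorem le_pr {q : ℕ} (hq : 2 ≤ q) : ∀ D : List ℕ, (∀ d ∈ D, 0 < d) → q ^ D.sum ≤ 2 ^ D.length * pr q D
  | [], _ => by simp [pr_nil]
  | d :: D, h => by
    have ih := le_pr hq D fun e he => h e (List.mem_cons_of_mem _ he)
    have h1 : q ≤ q ^ d := Nat.le_self_pow (h d (List.mem_cons_self ..)).ne' q
    have h2 : q ^ d ≤ 2 * (q ^ d - 1) := by omega
    rw [pr_cons, List.sum_cons, pow_add, List.length_cons, pow_succ]
    calc q ^ d * q ^ D.sum ≤ (2 * (q ^ d - 1)) * (2 ^ D.length * pr q D) := Nat.mul_le_mul h2 ih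
      _ = _ := by ring

theorem pr_le {q : ℕ} : ∀ D : List ℕ, pr q D ≤ q ^ D.sum
  | [] => by simp [pr_nil]
  | d :: D => by
    rw [pr_cons, List.sum_cons, pow_add]
    exact Nat.mul_le_mul (Nat.sub_le _ _) (pr_le D)

/-- the index from the orders -/
theorem idx_le {q i : ℕ} (hq : 2 ≤ q) {D E : List ℕ} (hD : ∀ d ∈ D, 0 < d) (h : i * pr q D = pr q E) {c : ℕ}
    (hc : E.sum = c + D.sum) : i ≤ 2 ^ D.length * q ^ c := by
  have h1 := le_pr hq D hD
  have h2 := pr_le (q := q) E
  rw [← h, hc, pow_add] at h2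
  have h3 : 0 < q ^ D.sum := pow_pos (by omega) _
  refine le_of_mul_le_mul_right ?_ h3
  calc i * q ^ D.sum ≤ i * (2 ^ D.length * pr q D) := Nat.mul_le_mul_left _ h1
    _ = 2 ^ D.length * (i * pr q D) := by ring
    _ ≤ 2 ^ D.length * (q ^ c * q ^ D.sum) := Nat.mul_le_mul_left _ h2
    _ = _ := by ring

end Cfsg.Agent.H726.BD.Num
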