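import Cfsg.Agent.H116.RatB0.RowRgd
import Cfsg.Agent.H589.BD.Defs
import Cfsg.Agent.H893.Sd.MemIff
import Cfsg.Agent.Blocks.Knorr

/-!
# The Steinberg character in the principal block, with its degree (helper726)

`st_of`, `st_of_index` : `χ` in the principal `p`-block for all `M`, of degree `|S|_r`.
-/

set_option autoImplicit false
set_option linter.unusedSectionVars false

namespace Cfsg.Agent.H726.BD

open Cfsg CoxeterSystem Cfsg.Agent.ChevalleyStructure.CoxeterGeom Cfsg.Agent.Tits.Roots Cfsg.Agent.Tits.Core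
  Cfsg.Agent.Tits.Exchange Cfsg.Agent.Nodes.Reps Cfsg.Agent.Nodes.BNOf Cfsg.Agent.Nodes.StabComb
  Cfsg.Agent.Nodes.Bruhat Cfsg.Agent.Nodes.OppDec Cfsg.Agent.Nodes.LeviDec Cfsg.Agent.Nodes.NormalForm
  Cfsg.Agent.KFacts.RgdOpp Cfsg.Agent.KFacts.RgdAut Cfsg.Agent.KFacts.RgdDiag Cfsg.Agent.H554.RG
  Cfsg.Agent.H116.RatB0

universe u

variable {I W : Type*} {S : Type u} [Fintype I] [DecidableEq I] [Group W] [Group S] {M : CoxeterMatrix I}
  {cs : CoxeterSystem M W} {A : I → I → ℤ} {h : IsCartan M A} {r : ℕ} {T : Subgroup S} {n : I → S}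
  {X : (I → ℤ) → Subgroup S} (R : RGD cs h r T n X)

include R in
/-- **The Steinberg character in the principal block.** -/
theorem st_of [Finite W] [Finite S] [hr : Fact r.Prime] (hG : GG cs h T X = ⊤) {p : ℕ}
    [hp : Fact p.Prime] (hpr : p ≠ r) (hJ : ∀ J : Finset I, J ≠ Finset.univ → p ∣ (PJ cs h T X (J : Set I)).index ∨
      reg p (PJ cs h T X (J : Set I)) ≡ reg p (⊤ : Subgroup S) [MOD p]) :
    ∃ χ : IrrCharacter S, (∀ M : Ideal AlgInt, IsPModular p M → χ ∈ principalBlock M S) ∧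
      charDegree (χ : S → ℂ) = ordProj[r] (Nat.card S) := by
  have := Fintype.ofFinite S
  obtain ⟨M₀, hM₀⟩ := Cfsg.Agent.Blocks.Knorr.exists_isPModular p
  obtain ⟨χ, h1, -, h3, -⟩ := exists_st R hG hpr hM₀ hJ
  refine ⟨χ, fun M hM => ?_, ?_⟩
  · rw [H893.Sd.mem_iff hM, ← H893.Sd.mem_iff hM₀]
    exact h1
  · obtain ⟨Q, hQ⟩ := exists_sylow R hG
    rw [h3, ← hQ, Sylow.card_eq_multiplicity]

include R in
theorem st_of_index [Finite W] [Finite S] [hr : Fact r.Prime] (hG : GG cs h T X = ⊤) {p : ℕ}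
    [hp : Fact p.Prime] (hpr : p ≠ r) (hJ : ∀ k : I, p ∣ (PJ cs h T X {j | j ≠ k}).index) :
    ∃ χ : IrrCharacter S, (∀ M : Ideal AlgInt, IsPModular p M → χ ∈ principalBlock M S) ∧
      charDegree (χ : S → ℂ) = ordProj[r] (Nat.card S) := by
  refine st_of R hG hpr fun J hJ' => Or.inl ?_
  obtain ⟨k, hk⟩ : ∃ k, k ∉ J := by
    by_contra hcon
    push Not at hcon
    exact hJ' (Finset.eq_univ_iff_forall.2 hcon)
  refine (hJ k).trans (Subgroup.index_dvd_of_le (PJ_mono R ?_))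
  intro j hj hjk
  subst hjk
  exact hk hj

end Cfsg.Agent.H726.BD
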