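import Cfsg.Agent.H726.BD.E8
import Cfsg.Agent.H781.RatTE6.RowA
import Cfsg.Agent.H781.RatTE6.RowB
import Cfsg.Agent.S2130

/-!
# S4932: `²E₆(q)` at the prime 3 (helper726)
-/

set_option autoImplicit false
set_option linter.unusedSectionVars false

namespace Cfsg.Agent.H726.BD

open CoxeterSystem Cfsg.Agent.ChevalleyStructure.CoxeterGeom Cfsg.Agent.Tits.Roots Cfsg.Agent.Tits.Core
  Cfsg.Agent.Tits.RootComb Cfsg.Agent.Nodes.Comb Cfsg.Agent.Nodes.Reps Cfsg.Agent.Nodes.BNOf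
  Cfsg.Agent.Nodes.StabComb Cfsg.Agent.Nodes.Bruhat Cfsg.Agent.Nodes.LeviDec Cfsg.Agent.H35.Poin
  Cfsg.Agent.H35.PoinNum Cfsg.Agent.H35.ExcIdx
open Cfsg.Lie Cfsg.Agent.ChevalleyStructure Cfsg.Agent.ChevalleyStructure.TwE6BN
open Cfsg.Agent.ChevalleyStructure.TwE6Basic (exists_frob)
open Cfsg.Agent.H116.RatB0 Cfsg.Agent.H781.RatTE6 Cfsg.Agent.H778.Exc
open Cfsg Cfsg.Agent.H589.BD

universe u

/-- the index of the parabolic subgroup `{1, 2, 3}` -/
def ix (q : ℕ) : ℕ := (q + 1) * (q ^ 4 + q ^ 2 + 1) * (q ^ 6 + 1) * (q ^ 6 - q ^ 3 + 1) * (q ^ 4 + 1)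

theorem cast_ix {q : ℕ} (hq : 1 ≤ q) : ((ix q : ℕ) : ℤ) = cz q * ((q : ℤ) ^ 4 + 1) := by
  unfold ix cz
  have h : q ^ 3 ≤ q ^ 6 := Nat.pow_le_pow_right hq (by norm_num)
  push_cast [Nat.cast_sub h]
  ring

theorem ix_of {q i : ℕ} (hq2 : 2 ≤ q)
    (h : i * ((1 + q ^ 2 + q ^ 4 + q ^ 5 + q ^ 7 + q ^ 9) * ((1 + q + q ^ 3 + q ^ 4) * (1 + q ^ 2))) *
      ((q - 1) ^ 4 * (q + 1) ^ 2) = PT q) : i = ix q := by
  have h1 := congrArg (Nat.cast : ℕ → ℤ) h
  rw [cast_PT (by omega)] at h1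
  push_cast [Nat.cast_sub (show 1 ≤ q by omega)] at h1
  have h0 := cast_ix (q := q) (by omega)
  have hq : (2 : ℤ) ≤ q := by exact_mod_cast hq2
  obtain ⟨x, hx⟩ : ∃ x : ℤ, x = q := ⟨_, rfl⟩
  rw [← hx] at h1 hq h0
  have h2 : ((1 + x ^ 2 + x ^ 4 + x ^ 5 + x ^ 7 + x ^ 9) * ((1 + x + x ^ 3 + x ^ 4) * (1 + x ^ 2))) *
      ((x - 1) ^ 4 * (x + 1) ^ 2) ≠ 0 := by
    have : 0 < x - 1 := by omega
    have : 0 < x := by omega
    positivity
  have h3 : (i : ℤ) = cz x * (x ^ 4 + 1) := by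
    apply mul_right_cancel₀ h2
    unfold cz
    linear_combination h1
  rw [← h0] at h3
  exact_mod_cast h3

theorem three_dvd_cz {q : ℕ} (hq : 1 ≤ q) (h : 3 ∣ q - 1 ∨ 3 ∣ q + 1) : (3 : ℤ) ∣ cz q := by
  rcases h with h | h
  · have h1 : (3 : ℤ) ∣ (q : ℤ) - 1 := by
      have := Int.natCast_dvd_natCast.2 h
      rwa [Nat.cast_sub hq] at this
    obtain ⟨x, hx⟩ := h1
    have hx' : (q : ℤ) = 1 + 3 * x := by linarith
    have h2 : (3 : ℤ) ∣ (q : ℤ) ^ 2 + q + 1 := by rw [hx']; exact ⟨1 + 3 * x + 3 * x ^ 2, by ring⟩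
    unfold cz
    exact ((((h2.mul_left _).mul_right _).mul_right _).mul_right _).mul_right _
  · have h1 : (3 : ℤ) ∣ (q : ℤ) + 1 := by
      have := Int.natCast_dvd_natCast.2 h
      push_cast at this
      exact this
    unfold cz
    exact ((((h1.mul_right _).mul_right _).mul_right _).mul_right _).mul_right _

theorem three_dvd_ix {q : ℕ} (hq : 1 ≤ q) (h : 3 ∣ q - 1 ∨ 3 ∣ q + 1) : 3 ∣ ix q := by
  have h1 : (3 : ℤ) ∣ ((ix q : ℕ) : ℤ) := by
    rw [cast_ix hq]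
    exact (three_dvd_cz hq h).mul_right _
  exact_mod_cast h1

section

variable {K : Type u} [Field K] [Fintype K] {q r f : ℕ} (hr : r.Prime) (hf : f ≠ 0) (hq : q = r ^ f) [CharP K r]
  {φ : K →+* K} (hφ : ∀ x, φ x = x ^ q) (hqq : ∀ t : K, (t ^ q) ^ q = t) (hK : Fintype.card K = q ^ 2)

include hr hf hq hφ hqq hK

theorem idx_ix : ∃ H : Subgroup ↥(twistedE6 K q), H.index = ix q := by
  have : Fact r.Prime := ⟨hr⟩
  have h2 : 2 ≤ q := by rw [hq]; exact two_le hr hf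
  have hpp : IsPrimePow q := by rw [hq]; exact hr.isPrimePow.pow hf
  have hfin : Finite CoxeterMatrix.F₄.Group := Nodes.RGDFold.finite_W (hp := Nodes.RGDTwE6.hp)
    CoxeterMatrix.F₄.toCoxeterSystem Nodes.RGDTwE6.isCartan Nodes.RGDTwE6.foldData
  have R := Nodes.RGDTwE6.rgd CoxeterMatrix.F₄.toCoxeterSystem hφ hqq r
  have hP : ¬ r ∣ PT q := by
    intro h3
    have h4 : r ∣ pr q [2, 6, 8, 10, 12, 18] := by
      rw [← PT_mul (by omega)]; exact Dvd.dvd.mul_right h3 _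
    rw [hq] at h4
    exact not_dvd_pr hr hf _ (by simp) h4
  have hT : Nat.gcd 3 (q + 1) * Nat.card ↥(Nodes.RGDTwE6.T K q) = (q - 1) ^ 4 * (q + 1) ^ 2 := by
    rw [← Cfsg.Agent.S1102.result hpp hK]
    congr 1
    exact Nat.card_congr (Subgroup.subgroupOfEquivOfLe inf_le_right).toEquiv
  have hd : ¬ r ∣ Nat.gcd 3 (q + 1) := by
    intro h3
    have h4 : r ∣ q + 1 := h3.trans (Nat.gcd_dvd_right _ _)
    have h5 : r ∣ q := by rw [hq]; exact dvd_pow_self r hf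
    exact hr.one_lt.ne' (Nat.dvd_one.1 ((Nat.dvd_add_right h5).1 h4))
  have hS : Nat.gcd 3 (q + 1) * Nat.card ↥(twistedE6 K q) = r ^ (f * 36) * PT q := by
    rw [Cfsg.Agent.S1066.result hpp hK, pow_mul, ← hq]
    unfold PT
    ring
  exact ⟨_, ix_of h2 (index_eq R (by
    rw [eq_top_iff, ← Nodes.RGDTwE6.G1_eq_top CoxeterMatrix.F₄.toCoxeterSystem hφ hqq]
    exact le_sup_right) (H631.Fpf.CardTw.card_P123 (p := r) hφ hqq (by omega) hK) hd hT hS hP)⟩

/-- **The Steinberg character, `p ∣ q - 1`.** -/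
theorem st_A {p : ℕ} [hp : Fact p.Prime] (hp2 : p ≠ 2) (hpr : p ≠ r) (h : p ∣ q - 1) :
    ∃ χ : IrrCharacter ↥(twistedE6 K q), (∀ M : Ideal AlgInt, IsPModular p M →
        χ ∈ principalBlock M ↥(twistedE6 K q)) ∧
      charDegree (χ : ↥(twistedE6 K q) → ℂ) = ordProj[r] (Nat.card ↥(twistedE6 K q)) := by
  have : Fact r.Prime := ⟨hr⟩
  have hq1 : 1 ≤ q := by rw [hq]; exact Nat.one_le_pow _ _ hr.pos
  have hpu : p ∣ Nat.card Kˣ := by
    rw [Nat.card_units, Nat.card_eq_fintype_card, hK]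
    have e : q ^ 2 - 1 = (q - 1) * (q + 1) := by
      obtain ⟨x, hx⟩ := Nat.exists_eq_add_of_le hq1
      rw [hx, Nat.add_sub_cancel_left]
      apply Nat.sub_eq_of_eq_add
      ring
    rw [e]
    exact h.mul_right _
  obtain ⟨z, hz⟩ := exists_prime_orderOf_dvd_card' p hpu
  have hz1 : IsPrimitiveRoot (z : K) p := by
    rw [IsPrimitiveRoot.coe_units_iff, ← hz]
    exact IsPrimitiveRoot.orderOf z
  have hzq : (z : K) ^ q = z := by
    obtain ⟨m, hm⟩ := h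
    have e : q = p * m + 1 := by omega
    rw [e, pow_succ, pow_mul, hz1.pow_eq_one, one_pow, one_mul]
  have hfin : Finite CoxeterMatrix.F₄.Group := Nodes.RGDFold.finite_W (hp := Nodes.RGDTwE6.hp)
    CoxeterMatrix.F₄.toCoxeterSystem Nodes.RGDTwE6.isCartan Nodes.RGDTwE6.foldData
  have R := Nodes.RGDTwE6.rgd CoxeterMatrix.F₄.toCoxeterSystem hφ hqq r
  have hGG : GG CoxeterMatrix.F₄.toCoxeterSystem Nodes.RGDTwE6.isCartan (Nodes.RGDTwE6.T K q)
      (Nodes.RGDTwE6.X φ q) = ⊤ := by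
    rw [eq_top_iff, ← Nodes.RGDTwE6.G1_eq_top CoxeterMatrix.F₄.toCoxeterSystem hφ hqq]
    exact le_sup_right
  have hT : tor K q p ≤ Nodes.RGDTwE6.T K q := fun t ht => ht.1
  exact st_of R hGG hpr fun _ _ => Or.inr (reg_modEq_of_le (isPGroup_tor p) ((hT.trans RGD.T_le_B).trans B_le_PJ)
    (((cent_tor hφ hp.out hp2 hz1 hzq).trans RGD.T_le_B).trans B_le_PJ))

/-- **The Steinberg character, `3 ∣ q + 1`.** -/
theorem st_B (hr3 : r ≠ 3) (h3 : 3 ∣ q + 1) :
    ∃ χ : IrrCharacter ↥(twistedE6 K q), (∀ M : Ideal AlgInt, IsPModular 3 M →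
        χ ∈ principalBlock M ↥(twistedE6 K q)) ∧
      charDegree (χ : ↥(twistedE6 K q) → ℂ) = ordProj[r] (Nat.card ↥(twistedE6 K q)) := by
  have : Fact r.Prime := ⟨hr⟩
  have hp : Fact (Nat.Prime 3) := ⟨Nat.prime_three⟩
  have h2 : 2 ≤ q := by rw [hq]; exact two_le hr hf
  have hpp : IsPrimePow q := by rw [hq]; exact hr.isPrimePow.pow hf
  have hfin : Finite CoxeterMatrix.F₄.Group := Nodes.RGDFold.finite_W (hp := Nodes.RGDTwE6.hp)
    CoxeterMatrix.F₄.toCoxeterSystem Nodes.RGDTwE6.isCartan Nodes.RGDTwE6.foldData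
  have R := Nodes.RGDTwE6.rgd CoxeterMatrix.F₄.toCoxeterSystem hφ hqq r
  have hGG : GG CoxeterMatrix.F₄.toCoxeterSystem Nodes.RGDTwE6.isCartan (Nodes.RGDTwE6.T K q)
      (Nodes.RGDTwE6.X φ q) = ⊤ := by
    rw [eq_top_iff, ← Nodes.RGDTwE6.G1_eq_top CoxeterMatrix.F₄.toCoxeterSystem hφ hqq]
    exact le_sup_right
  have hP : ¬ r ∣ PT q := by
    intro h3
    have h4 : r ∣ pr q [2, 6, 8, 10, 12, 18] := by
      rw [← PT_mul (by omega)]; exact Dvd.dvd.mul_right h3 _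
    rw [hq] at h4
    exact not_dvd_pr hr hf _ (by simp) h4
  have hT : Nat.gcd 3 (q + 1) * Nat.card ↥(Nodes.RGDTwE6.T K q) = (q - 1) ^ 4 * (q + 1) ^ 2 := by
    rw [← Cfsg.Agent.S1102.result hpp hK]
    congr 1
    exact Nat.card_congr (Subgroup.subgroupOfEquivOfLe inf_le_right).toEquiv
  have hd : ¬ r ∣ Nat.gcd 3 (q + 1) := by
    intro h3
    have h4 : r ∣ q + 1 := h3.trans (Nat.gcd_dvd_right _ _)
    have h5 : r ∣ q := by rw [hq]; exact dvd_pow_self r hf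
    exact hr.one_lt.ne' (Nat.dvd_one.1 ((Nat.dvd_add_right h5).1 h4))
  have hS : Nat.gcd 3 (q + 1) * Nat.card ↥(twistedE6 K q) = r ^ (f * 36) * PT q := by
    rw [Cfsg.Agent.S1066.result hpp hK, pow_mul, ← hq]
    unfold PT
    ring
  have hpnr : ¬ 3 ∣ r := fun h => hr3 ((Nat.prime_dvd_prime_iff_eq hp.out hr).1 h).symm
  have h1 : ¬ 3 ∣ q - 1 := by omega
  have hc := three_dvd_cz (q := q) (by omega) (Or.inr h3)
  have hidx := idx_ix hr hf hq hφ hqq hK
  have hpS : 3 ∣ Nat.card ↥(twistedE6 K q) := by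
    obtain ⟨H, hH⟩ := hidx
    exact (hH ▸ three_dvd_ix (by omega) (Or.inr h3) : 3 ∣ H.index).trans H.index_dvd_card
  refine st_of_index R hGG (Ne.symm hr3) fun k => ?_
  fin_cases k
  · have e : ({j | j ≠ (0 : Fin 4)} : Set (Fin 4)) = {j | j ∈ ([1, 2, 3] : List (Fin 4))} := by
      ext j; revert j; decide
    show 3 ∣ (PJ CoxeterMatrix.F₄.toCoxeterSystem Nodes.RGDTwE6.isCartan (Nodes.RGDTwE6.T K q)
      (Nodes.RGDTwE6.X φ q) {j | j ≠ (0 : Fin 4)}).index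
    rw [e]
    exact idx_zero h2 hc (index_eq R hGG (H631.Fpf.CardTw.card_P123 (p := r) hφ hqq (by omega) hK) hd hT hS hP)
  · exact (data_TwE6_1 hr hf hq hφ hqq hK).idx 3 hp.out hpS hpnr h1
  · exact (data_TwE6_2 hr hf hq hφ hqq hK).idx 3 hp.out hpS hpnr h1
  · have e : ({j | j ≠ (3 : Fin 4)} : Set (Fin 4)) = {j | j ∈ ([0, 1, 2] : List (Fin 4))} := by
      ext j; revert j; decide
    show 3 ∣ (PJ CoxeterMatrix.F₄.toCoxeterSystem Nodes.RGDTwE6.isCartan (Nodes.RGDTwE6.T K q)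
      (Nodes.RGDTwE6.X φ q) {j | j ≠ (3 : Fin 4)}).index
    rw [e]
    exact idx_three h2 hc (index_eq R hGG (H631.Fpf.CardTw.card_P012 (p := r) hφ hqq (by omega) hK) hd hT hS hP)

omit hφ hqq in
/-- the `r`-part of the order -/
theorem ordProj_card : ordProj[r] (Nat.card ↥(twistedE6 K q)) = q ^ 36 := by
  have h2 : 2 ≤ q := by rw [hq]; exact two_le hr hf
  have hpp : IsPrimePow q := by rw [hq]; exact hr.isPrimePow.pow hf
  have hP : ¬ r ∣ PT q := by
    intro h3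
    have h4 : r ∣ pr q [2, 6, 8, 10, 12, 18] := by
      rw [← PT_mul (by omega)]; exact Dvd.dvd.mul_right h3 _
    rw [hq] at h4
    exact not_dvd_pr hr hf _ (by simp) h4
  have hd : ¬ r ∣ Nat.gcd 3 (q + 1) := by
    intro h3
    have h4 : r ∣ q + 1 := h3.trans (Nat.gcd_dvd_right _ _)
    have h5 : r ∣ q := by rw [hq]; exact dvd_pow_self r hf
    exact hr.one_lt.ne' (Nat.dvd_one.1 ((Nat.dvd_add_right h5).1 h4))
  have hS : Nat.gcd 3 (q + 1) * Nat.card ↥(twistedE6 K q) = r ^ (f * 36) * PT q := by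
    rw [Cfsg.Agent.S1066.result hpp hK, pow_mul, ← hq]
    unfold PT
    ring
  have hP0 : PT q ≠ 0 := fun h => hP (h ▸ dvd_zero r)
  have hd0 : Nat.gcd 3 (q + 1) ≠ 0 := fun h => hd (h ▸ dvd_zero r)
  have hc0 : Nat.card ↥(twistedE6 K q) ≠ 0 := Nat.card_pos.ne'
  have e := congrArg (fun n => n.factorization r) hS
  rw [Nat.factorization_mul hd0 hc0, Nat.factorization_mul (pow_ne_zero _ hr.ne_zero) hP0,
    Finsupp.add_apply, Finsupp.add_apply, Nat.factorization_eq_zero_of_not_dvd hd,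
    Nat.factorization_eq_zero_of_not_dvd hP, hr.factorization_pow, Finsupp.single_eq_same, zero_add, add_zero] at e
  rw [e, pow_mul, ← hq]

omit hφ hqq in
/-- the 3-part of the order, `3 ∣ q - 1` -/
theorem three_A (hr3 : r ≠ 3) (h : 3 ∣ q - 1) :
    (Nat.card ↥(twistedE6 K q)).factorization 3 = 4 * (q - 1).factorization 3 + 2 := by
  have h2 : 2 ≤ q := by rw [hq]; exact two_le hr hf
  have hpp : IsPrimePow q := by rw [hq]; exact hr.isPrimePow.pow hf
  have hS : Nat.gcd 3 (q + 1) * Nat.card ↥(twistedE6 K q) = r ^ (f * 36) * PT q := by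
    rw [Cfsg.Agent.S1066.result hpp hK, pow_mul, ← hq]
    unfold PT
    ring
  have hg : Nat.gcd 3 (q + 1) = 1 := (Nat.Prime.coprime_iff_not_dvd Nat.prime_three).2 (by omega)
  rw [hg, one_mul] at hS
  have e0 := PT_mul (q := q) (by omega)
  have n1 : pr q [2, 6, 8, 10, 12, 18] ≠ 0 := Num.pr_ne h2 _ (by decide)
  have n2 : pr q [5, 9] ≠ 0 := Num.pr_ne h2 _ (by decide)
  have n3 : PT q ≠ 0 := fun h => n1 (by rw [← e0, h, zero_mul])
  have e1 := congrArg (fun n => n.factorization 3) e0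
  rw [Nat.factorization_mul n3 n2, Finsupp.add_apply, Num.fac_pr_one h2 h _ (by decide),
    Num.fac_pr_one h2 h _ (by decide)] at e1
  have e2 := congrArg (fun n => n.factorization 3) hS
  have e3 : (r ^ (f * 36)).factorization 3 = 0 := by
    apply Nat.factorization_eq_zero_of_not_dvd
    intro h8
    exact hr3 ((Nat.prime_dvd_prime_iff_eq Nat.prime_three hr).1 (Nat.prime_three.dvd_of_dvd_pow h8)).symm
  rw [Nat.factorization_mul (pow_ne_zero _ hr.ne_zero) n3, Finsupp.add_apply, e3, zero_add] at e2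
  rw [e2]
  have v1 : ([2, 6, 8, 10, 12, 18].map Num.v3).sum = 4 := by decide
  have v2 : ([5, 9].map Num.v3).sum = 2 := by decide
  rw [v1, v2] at e1
  simp only [List.length_cons, List.length_nil] at e1
  omega

omit hφ hqq in
/-- the 3-part of the order, `3 ∣ q + 1` -/
theorem three_B (hr3 : r ≠ 3) (h : 3 ∣ q + 1) :
    (Nat.card ↥(twistedE6 K q)).factorization 3 = 6 * (q + 1).factorization 3 + 3 := by
  have h2 : 2 ≤ q := by rw [hq]; exact two_le hr hf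
  have hpp : IsPrimePow q := by rw [hq]; exact hr.isPrimePow.pow hf
  have hS : Nat.gcd 3 (q + 1) * Nat.card ↥(twistedE6 K q) = r ^ (f * 36) * PT q := by
    rw [Cfsg.Agent.S1066.result hpp hK, pow_mul, ← hq]
    unfold PT
    ring
  have hg : Nat.gcd 3 (q + 1) = 3 := Nat.gcd_eq_left h
  rw [hg] at hS
  have e0 := PT_mul (q := q) (by omega)
  have n1 : pr q [2, 6, 8, 10, 12, 18] ≠ 0 := Num.pr_ne h2 _ (by decide)
  have n2 : pr q [5, 9] ≠ 0 := Num.pr_ne h2 _ (by decide)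
  have n3 : PT q ≠ 0 := fun h => n1 (by rw [← e0, h, zero_mul])
  have e1 := congrArg (fun n => n.factorization 3) e0
  rw [Nat.factorization_mul n3 n2, Finsupp.add_apply, Num.fac_pr_two h2 h _ (by decide),
    Num.fac_pr_two h2 h _ (by decide)] at e1
  have e2 := congrArg (fun n => n.factorization 3) hS
  have e3 : (r ^ (f * 36)).factorization 3 = 0 := by
    apply Nat.factorization_eq_zero_of_not_dvd
    intro h8
    exact hr3 ((Nat.prime_dvd_prime_iff_eq Nat.prime_three hr).1 (Nat.prime_three.dvd_of_dvd_pow h8)).symm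
  have hc0 : Nat.card ↥(twistedE6 K q) ≠ 0 := Nat.card_pos.ne'
  rw [Nat.factorization_mul (pow_ne_zero _ hr.ne_zero) n3, Finsupp.add_apply, e3, zero_add,
    Nat.factorization_mul (by norm_num) hc0, Finsupp.add_apply, Nat.prime_three.factorization_self] at e2
  have v1 : (([2, 6, 8, 10, 12, 18].filter fun d => d % 2 = 0).map Num.v3).sum = 4 := by decide
  have v2 : (([5, 9].filter fun d => d % 2 = 0).map Num.v3).sum = 0 := by decide
  have v3 : ([2, 6, 8, 10, 12, 18].filter fun d => d % 2 = 0).length = 6 := by decide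
  have v4 : ([5, 9].filter fun d => d % 2 = 0).length = 0 := by decide
  rw [v1, v2, v3, v4] at e1
  omega

end

end Cfsg.Agent.H726.BD
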